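import Mathlib.LinearAlgebra.Eigenspace.Triangularizable
import Mathlib.LinearAlgebra.FreeModule.Finite.Basic
import Mathlib.LinearAlgebra.Dimension.Finite
import Mathlib.FieldTheory.IsAlgClosed.AlgebraicClosure
import Mathlib.LinearAlgebra.TensorProduct.Tower
import Mathlib.RingTheory.Flat.Basic
import Mathlib.RingTheory.IntegralDomain
import Mathlib.Algebra.Module.ZMod
import Mathlib.GroupTheory.OrderOfElement
import Mathlib.FieldTheory.Finite.Basic
import Mathlib.RingTheory.TensorProduct.Basic
import Mathlib.LinearAlgebra.Dimension.Constructions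
import Mathlib.Algebra.CharP.Algebra

/-!
# The average dimension of the fixed space on a coset

If an abelian group `N` of invertible order acts on `V` without trivial constituent and `T` normalises
it, then the average over `h ∈ N` of the dimension of the fixed space of `T h` is at most `dim V / 2`
(Guralnick–Maróti, the abelian case).
-/

set_option autoImplicit false
set_option linter.style.haveILetI false
set_option linter.unusedSectionVars false

namespace Cfsg.Agent.PrimAvg

open Module LinearMap

universe u v w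

variable {K : Type u} [Field K] {V : Type v} [AddCommGroup V] [Module K V] [FiniteDimensional K V]

theorem finrank_ker_le_restrict_add_mapQ (A : Module.End K V) (U : Submodule K V)
    (hA : ∀ x ∈ U, A x ∈ U) :
    finrank K (LinearMap.ker A) ≤ finrank K (LinearMap.ker (A.restrict hA)) +
      finrank K (LinearMap.ker (U.mapQ U A hA)) := by
  set f := U.mkQ ∘ₗ (LinearMap.ker A).subtype with hf
  rw [← LinearMap.finrank_range_add_finrank_ker f, add_comm (finrank K (LinearMap.range f))]
  refine Nat.add_le_add ?_ (Submodule.finrank_mono ?_)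
  · let g : LinearMap.ker f →ₗ[K] LinearMap.ker (A.restrict hA) :=
      LinearMap.codRestrict _ (LinearMap.codRestrict U
        ((LinearMap.ker A).subtype ∘ₗ (LinearMap.ker f).subtype)
        (fun x => (Submodule.Quotient.mk_eq_zero U).1 x.2))
        (fun x => LinearMap.mem_ker.2 (Subtype.ext (LinearMap.mem_ker.1 x.1.2)))
    refine LinearMap.finrank_le_finrank_of_injective (f := g) fun x y hxy => ?_
    exact Subtype.ext (Subtype.ext (congrArg (fun z => (z.1.1 : V)) hxy))
  · rintro _ ⟨x, rfl⟩
    show U.mapQ U A hA (U.mkQ x.1) = 0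
    rw [Submodule.mkQ_apply, Submodule.mapQ_apply, LinearMap.mem_ker.1 x.2,
      Submodule.Quotient.mk_zero]

variable {N : Type w} [CommGroup N] [Fintype N]

theorem sum_inv_mul_eq_zero (μ ν : N →* K) (h : μ ≠ ν) : ∑ n : N, (μ n)⁻¹ * ν n = 0 := by
  classical
  have hne : (invMonoidHom.comp μ) * ν ≠ 1 := fun e => h <| MonoidHom.ext fun n => by
    have := DFunLike.congr_fun e n
    simp only [MonoidHom.mul_apply, MonoidHom.comp_apply, invMonoidHom_apply, MonoidHom.one_apply] at this
    have hμ : μ n ≠ 0 := ((Group.isUnit n).map μ).ne_zero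
    field_simp at this
    exact this.symm
  simpa using sum_hom_units_eq_zero _ hne

theorem exists_weight [IsAlgClosed K] [Nontrivial V] (ρ : N →* Module.End K V) :
    ∃ (lam : N →* K) (v : V), v ≠ 0 ∧ ∀ n, ρ n v = lam n • v := by
  classical
  have hex : ∃ d, ∃ S : Submodule K V, S ≠ ⊥ ∧ (∀ n, ∀ x ∈ S, ρ n x ∈ S) ∧ finrank K S = d :=
    ⟨_, ⊤, top_ne_bot, fun _ _ _ => Submodule.mem_top, rfl⟩
  obtain ⟨S, hS, hinv, hd⟩ := Nat.find_spec hex
  haveI : Nontrivial S := (Submodule.nontrivial_iff_ne_bot).2 hS
  obtain ⟨v, hvS, hv⟩ := S.exists_mem_ne_zero_of_ne_bot hS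
  have hsc : ∀ n, ∃ c : K, ρ n v = c • v := fun n => by
    obtain ⟨c, hc⟩ := Module.End.exists_eigenvalue ((ρ n).restrict (hinv n))
    refine ⟨c, ?_⟩
    set S' := S ⊓ Module.End.eigenspace (ρ n) c
    have h1 : S' ≠ ⊥ := by
      obtain ⟨x, hx, hx0⟩ := Submodule.exists_mem_ne_zero_of_ne_bot hc
      refine fun e => hx0 (Subtype.ext ?_)
      have hmem : (x : V) ∈ S' := ⟨x.2, Module.End.mem_eigenspace_iff.2 (by
        simpa [LinearMap.restrict_apply, Subtype.ext_iff] using Module.End.mem_eigenspace_iff.1 hx)⟩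
      rwa [e, Submodule.mem_bot] at hmem
    have h2 : S' = S := by
      refine Submodule.eq_of_le_of_finrank_le inf_le_left ?_
      rw [hd]
      refine Nat.find_min' hex ⟨S', h1, fun m x hx => ⟨hinv m x hx.1, ?_⟩, rfl⟩
      have hx2 := Module.End.mem_eigenspace_iff.1 hx.2
      refine Module.End.mem_eigenspace_iff.2 ?_
      rw [← Module.End.mul_apply, ← map_mul, mul_comm, map_mul, Module.End.mul_apply, hx2, map_smul]
    exact Module.End.mem_eigenspace_iff.1 (h2.ge hvS).2
  choose c hc using hsc
  refine ⟨⟨⟨c, ?_⟩, fun a b => ?_⟩, v, hv, hc⟩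
  · refine smul_left_injective K hv ?_
    show c 1 • v = (1 : K) • v
    rw [← hc, map_one, Module.End.one_apply, one_smul]
  · refine smul_left_injective K hv ?_
    show c (a * b) • v = (c a * c b) • v
    rw [← hc, map_mul, Module.End.mul_apply, hc, map_smul, hc, smul_smul, mul_comm]

/-- The sum over a coset when no proper nonzero subspace is invariant. -/
theorem two_mul_sum_of_irreducible [IsAlgClosed K] (hN : (Fintype.card N : K) ≠ 0) (σ : N ≃* N)
    (ρ : N →* Module.End K V) (T : Module.End K V) (hT : Function.Injective T)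
    (hTρ : ∀ n, T * ρ n = ρ (σ n) * T) (hsum : ∑ n, ρ n = 0)
    (hirr : ∀ U : Submodule K V, (∀ x ∈ U, T x ∈ U) → (∀ n, ∀ x ∈ U, ρ n x ∈ U) → U = ⊥ ∨ U = ⊤) :
    2 * ∑ h, finrank K (LinearMap.ker (T * ρ h - 1)) ≤ Fintype.card N * finrank K V := by
  classical
  rcases subsingleton_or_nontrivial V with hV | hV
  · simp [Module.finrank_zero_of_subsingleton]
  obtain ⟨lam, v₀, hv₀, hlam⟩ := exists_weight ρ
  let τ : N ≃* N := σ.symm
  let W : (N →* K) → Submodule K V := fun μ => ⨅ n, Module.End.eigenspace (ρ n) (μ n)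
  have hW : ∀ μ x, x ∈ W μ ↔ ∀ n, ρ n x = μ n • x := fun μ x => by
    simp [W, Submodule.mem_iInf, Module.End.mem_eigenspace_iff]
  let μ : ℕ → (N →* K) := fun i => Nat.rec lam (fun _ m => m.comp τ.toMonoidHom) i
  have hμ0 : μ 0 = lam := rfl
  have hμs : ∀ i n, μ (i + 1) n = μ i (τ n) := fun _ _ => rfl
  have hTstep : ∀ i x, x ∈ W (μ i) → T x ∈ W (μ (i + 1)) := fun i x hx => (hW _ _).2 fun n => by
    have h := DFunLike.congr_fun (hTρ (τ n)) x
    simp only [Module.End.mul_apply, τ, MulEquiv.apply_symm_apply] at h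
    rw [← h, (hW _ _).1 hx, map_smul, hμs]
  have hTpow : ∀ i x, x ∈ W lam → (T ^ i) x ∈ W (μ i) := fun i x hx => by
    induction i with
    | zero => rw [pow_zero, Module.End.one_apply, hμ0]; exact hx
    | succ i ih => rw [pow_succ', Module.End.mul_apply]; exact hTstep i _ ih
  have hμit : ∀ i n, μ i n = lam (τ^[i] n) := by
    intro i
    induction i with
    | zero => intro n; rfl
    | succ i ih => intro n; rw [hμs, ih, Function.iterate_succ_apply]
  have hper : ∃ l, 0 < l ∧ μ l = μ 0 := by
    refine ⟨orderOf (τ.toEquiv : Equiv.Perm N), orderOf_pos _, MonoidHom.ext fun n => ?_⟩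
    have h := Equiv.Perm.coe_pow (τ.toEquiv : Equiv.Perm N) (orderOf (τ.toEquiv : Equiv.Perm N))
    rw [pow_orderOf_eq_one] at h
    rw [hμit, hμ0]
    exact congrArg lam (congrFun h n).symm
  haveI : DecidablePred fun n => 0 < n ∧ μ n = μ 0 := fun _ => Classical.propDecidable _
  obtain ⟨l, ⟨hl0, hlμ⟩, hmin⟩ : ∃ l, (0 < l ∧ μ l = μ 0) ∧ ∀ m < l, ¬ (0 < m ∧ μ m = μ 0) :=
    ⟨Nat.find hper, Nat.find_spec hper, fun _ hm => Nat.find_min hper hm⟩
  have hdist : ∀ i j, i < j → j < l → μ i ≠ μ j := by
    intro i j hij hjl he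
    refine hmin _ (show j - i < l by omega) ⟨by omega, MonoidHom.ext fun n => ?_⟩
    obtain ⟨m, rfl⟩ := (τ.surjective.iterate i) n
    rw [hμit, ← Function.iterate_add_apply, show j - i + i = j by omega, ← hμit, ← he, hμit, hμ0]
  set E := W lam with hE
  have hL : ∀ x ∈ E, (T ^ l) x ∈ E := fun x hx => by
    have := hTpow l x hx
    rwa [hlμ, hμ0] at this
  let Φ : (Fin l → E) →ₗ[K] V := ∑ i : Fin l, (T ^ (i : ℕ)) ∘ₗ E.subtype ∘ₗ LinearMap.proj i
  have hΦ : ∀ f, Φ f = ∑ i : Fin l, (T ^ (i : ℕ)) (f i : V) := fun f => by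
    simp [Φ, LinearMap.sum_apply]
  have hsurj : Function.Surjective Φ := by
    rw [← LinearMap.range_eq_top]
    have hmem : ∀ (i : Fin l) x, x ∈ E → (T ^ (i : ℕ)) x ∈ LinearMap.range Φ := fun i x hx =>
      ⟨Pi.single i ⟨x, hx⟩, by
        rw [hΦ, Finset.sum_eq_single i (fun j _ hj => by simp [hj]) (fun h => absurd (Finset.mem_univ i) h)]
        simp⟩
    refine (hirr _ ?_ ?_).resolve_left fun e => hv₀ ?_
    · rintro _ ⟨f, rfl⟩
      rw [hΦ, map_sum]
      refine Submodule.sum_mem _ fun i _ => ?_
      rw [← Module.End.mul_apply, ← pow_succ']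
      by_cases hi : (i : ℕ) + 1 < l
      · exact hmem ⟨_, hi⟩ _ (f i).2
      · rw [show (i : ℕ) + 1 = l by have := i.2; omega]
        have := hmem ⟨0, hl0⟩ _ (hL _ (f i).2)
        simpa using this
    · rintro n _ ⟨f, rfl⟩
      rw [hΦ, map_sum]
      refine Submodule.sum_mem _ fun i _ => ?_
      rw [(hW _ _).1 (hTpow i _ (f i).2) n]
      exact Submodule.smul_mem _ _ (hmem i _ (f i).2)
    · have := hmem ⟨0, hl0⟩ v₀ ((hW _ _).2 hlam)
      rw [e, Submodule.mem_bot] at this
      simpa using this
  have hinj : Function.Injective Φ := by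
    rw [← LinearMap.ker_eq_bot, Submodule.eq_bot_iff]
    intro f hf
    rw [LinearMap.mem_ker, hΦ] at hf
    funext j
    have h := congrArg (fun x => ∑ n : N, (μ j n)⁻¹ • ρ n x) hf
    simp only [map_sum, map_zero, smul_zero, Finset.sum_const_zero, Finset.smul_sum] at h
    rw [Finset.sum_comm] at h
    simp only [fun (i : Fin l) n => (hW _ _).1 (hTpow i _ (f i).2) n, smul_smul, ← Finset.sum_smul] at h
    rw [Finset.sum_eq_single j] at h
    · have h1 : ∑ n : N, (μ j n)⁻¹ * μ j n = (Fintype.card N : K) := by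
        simp [inv_mul_cancel₀ ((Group.isUnit _).map (μ j)).ne_zero]
      rw [h1, smul_eq_zero, or_iff_right hN, ← map_zero (T ^ (j : ℕ))] at h
      exact Subtype.ext ((show Function.Injective (T ^ (j : ℕ) : Module.End K V) by
        rw [Module.End.coe_pow]; exact hT.iterate _) h)
    · intro i _ hij
      rw [sum_inv_mul_eq_zero _ _ (fun e => ?_), zero_smul]
      rcases lt_or_gt_of_ne (fun e' : (i : ℕ) = j => hij (Fin.ext e')) with h' | h'
      · exact hdist i j h' j.2 e.symm
      · exact hdist j i h' i.2 e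
    · exact fun hn => absurd (Finset.mem_univ j) hn
  let e := LinearEquiv.ofBijective Φ ⟨hinj, hsurj⟩
  have hdim : finrank K V = l * finrank K E := by
    rw [← e.finrank_eq, Module.finrank_pi_fintype, Finset.sum_const, Finset.card_univ,
      Fintype.card_fin, smul_eq_mul]
  let L : E →ₗ[K] E := (T ^ l).restrict hL
  let M : N →* K := ∏ i ∈ Finset.range l, μ i
  have hker : ∀ h, finrank K (LinearMap.ker (T * ρ h - 1)) ≤
      finrank K (LinearMap.ker (M h • L - 1)) := by
    intro h
    have key : ∀ v, T (ρ h v) = v → ∀ i : Fin l,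
        ((e.symm v i : E) : V) = (∏ j ∈ Finset.range i, μ j h) • (e.symm v ⟨0, hl0⟩ : V) ∧
        (M h • L) (e.symm v ⟨0, hl0⟩) = e.symm v ⟨0, hl0⟩ := by
      intro v hv
      set f := e.symm v with hf
      obtain ⟨k, hk⟩ : ∃ k, l = k + 1 := ⟨l - 1, by omega⟩
      let g : Fin l → E := fun i => if hi : (i : ℕ) = 0 then μ k h • L (f ⟨k, by omega⟩)
        else μ ((i : ℕ) - 1) h • f ⟨(i : ℕ) - 1, by omega⟩
      have hg : g = f := by
        refine hinj ?_
        have hfv : Φ f = v := e.apply_symm_apply v
        rw [hfv]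
        conv_rhs => rw [← hv, ← hfv, hΦ, map_sum, map_sum]
        rw [hΦ]
        let G : Fin l → V := fun i => (T ^ (i : ℕ)) (g i : V)
        let F : Fin l → V := fun i => T (ρ h ((T ^ (i : ℕ)) (f i : V)))
        show ∑ i, G i = ∑ i, F i
        refine Finset.sum_nbij' (fun i => if hi : (i : ℕ) = 0 then ⟨k, by omega⟩ else ⟨(i : ℕ) - 1, by omega⟩)
          (fun i => if hi : (i : ℕ) + 1 < l then ⟨(i : ℕ) + 1, hi⟩ else ⟨0, hl0⟩)
          (fun _ _ => Finset.mem_univ _) (fun _ _ => Finset.mem_univ _) ?_ ?_ ?_
        · intro i _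
          rcases i with ⟨i, hi⟩
          by_cases h0 : i = 0
          · subst h0; simp [hk]
          · simp only [Fin.mk.injEq, dif_neg h0]
            rw [dif_pos (by omega)]
            exact Fin.ext (by simp only; omega)
        · intro i _
          rcases i with ⟨i, hi⟩
          by_cases h0 : i + 1 < l
          · simp [h0]
          · simp [h0]; omega
        · intro i _
          rcases i with ⟨i, hi⟩
          by_cases h0 : i = 0
          · subst h0
            simp only [G, F, g, dite_true]
            rw [(hW _ _).1 (hTpow k _ (f ⟨k, by omega⟩).2) h, map_smul, ← Module.End.mul_apply, ← pow_succ', ← hk]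
            simp [L, LinearMap.restrict_apply]
          · simp only [G, F, g, h0, dite_false]
            rw [(hW _ _).1 (hTpow (i - 1) _ (f ⟨i - 1, by omega⟩).2) h, Submodule.coe_smul, map_smul,
              map_smul, ← Module.End.mul_apply T, ← pow_succ', show i - 1 + 1 = i by omega]
      have hstep : ∀ i (hi : i < l), (f ⟨i, hi⟩) = (∏ j ∈ Finset.range i, μ j h) • f ⟨0, hl0⟩ := by
        intro i
        induction i with
        | zero => intro hi; simp
        | succ i ih =>
          intro hi
          conv_lhs => rw [← hg]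
          simp only [g, Nat.succ_ne_zero, dite_false, Nat.add_sub_cancel]
          rw [ih (by omega), smul_smul, Finset.prod_range_succ, mul_comm]
      refine fun i => ⟨by rw [← Submodule.coe_smul, ← hstep i i.2], ?_⟩
      conv_rhs => rw [← hg]
      simp only [g, dite_true]
      rw [hstep k (by omega), map_smul, smul_smul, LinearMap.smul_apply]
      simp only [M, hk, Finset.prod_range_succ, MonoidHom.mul_apply, MonoidHom.finsetProd_apply]
      rw [mul_comm]
    let p : LinearMap.ker (T * ρ h - 1) →ₗ[K] E :=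
      LinearMap.proj (⟨0, hl0⟩ : Fin l) ∘ₗ e.symm.toLinearMap ∘ₗ (LinearMap.ker _).subtype
    have hmem : ∀ x : LinearMap.ker (T * ρ h - 1), T (ρ h x) = x := fun x => by
      have := LinearMap.mem_ker.1 x.2
      rwa [LinearMap.sub_apply, Module.End.one_apply, sub_eq_zero, Module.End.mul_apply] at this
    have hp : ∀ x, p x ∈ LinearMap.ker (M h • L - 1) := fun x => by
      rw [LinearMap.mem_ker, LinearMap.sub_apply, Module.End.one_apply, sub_eq_zero]
      exact (key _ (hmem x) ⟨0, hl0⟩).2
    refine LinearMap.finrank_le_finrank_of_injective (f := p.codRestrict _ hp) fun x y hxy => ?_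
    have h0 : p x = p y := congrArg Subtype.val hxy
    refine Subtype.ext (e.symm.injective (funext fun i => Subtype.ext ?_))
    rw [(key _ (hmem x) i).1, (key _ (hmem y) i).1]
    exact congrArg (fun z : E => (∏ j ∈ Finset.range i, μ j h) • (z : V)) h0
  refine (Nat.mul_le_mul_left 2 (Finset.sum_le_sum fun h _ => hker h)).trans ?_
  set D := fun h : N => finrank K (LinearMap.ker (M h • L - 1))
  show 2 * ∑ h, D h ≤ _
  have hM0 : ∀ n, M n ≠ 0 := fun n => ((Group.isUnit n).map M).ne_zero
  by_cases hM : M = 1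
  · have hl2 : 2 ≤ l := by
      by_contra h2
      have hl1 : l = 1 := by omega
      refine hv₀ ?_
      have h1 := DFunLike.congr_fun hsum v₀
      rw [LinearMap.sum_apply, LinearMap.zero_apply] at h1
      have hlam1 : lam = 1 := by
        rw [← hM]; simp [M, hl1, hμ0]
      simp only [hlam, hlam1, MonoidHom.one_apply, one_smul, Finset.sum_const, Finset.card_univ,
        ← Nat.cast_smul_eq_nsmul K, smul_eq_zero] at h1
      exact h1.resolve_left hN
    calc 2 * ∑ h, D h ≤ 2 * (Fintype.card N * finrank K E) := by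
          refine Nat.mul_le_mul_left 2 ((Finset.sum_le_card_nsmul _ _ _ fun h _ =>
            Submodule.finrank_le _).trans_eq ?_)
          rw [Finset.card_univ, smul_eq_mul]
      _ ≤ Fintype.card N * finrank K V := by
          rw [hdim, mul_left_comm]
          exact Nat.mul_le_mul_left _ (Nat.mul_le_mul_right _ hl2)
  obtain ⟨a, ha⟩ : ∃ a, M a ≠ 1 := by
    by_contra! h
    exact hM (MonoidHom.ext h)
  have hpair : ∀ h, D h + D (h * a) ≤ finrank K E := fun h => by
    refine (Submodule.finrank_add_finrank_le_of_disjoint ?_)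
    refine Submodule.disjoint_def.2 fun x hx hy => ?_
    simp only [LinearMap.mem_ker, LinearMap.sub_apply, LinearMap.smul_apply, Module.End.one_apply,
      sub_eq_zero] at hx hy
    have h3 : (M h - M (h * a)) • L x = 0 := by rw [sub_smul, hx, hy, sub_self]
    rcases smul_eq_zero.1 h3 with h4 | h4
    · refine absurd ?_ ha
      rw [map_mul, sub_eq_zero] at h4
      exact (mul_eq_left₀ (hM0 h)).1 h4.symm
    · rw [← hx, h4, smul_zero]
  calc 2 * ∑ h, D h = ∑ h, (D h + D (h * a)) := by
        rw [Finset.sum_add_distrib, two_mul]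
        congr 1
        exact (Equiv.sum_comp (Equiv.mulRight a) D).symm
    _ ≤ ∑ _h : N, finrank K E := Finset.sum_le_sum fun h _ => hpair h
    _ ≤ Fintype.card N * finrank K V := by
        rw [Finset.sum_const, Finset.card_univ, smul_eq_mul, hdim]
        exact Nat.mul_le_mul_left _ (Nat.le_mul_of_pos_left _ hl0)

/-- The average of `dim C_V(T h)` over `h ∈ N` is at most `dim V / 2`. -/
theorem two_mul_sum_finrank_fixed [IsAlgClosed K] (hN : (Fintype.card N : K) ≠ 0) (σ : N ≃* N)
    (ρ : N →* Module.End K V) (T : Module.End K V) (hT : Function.Injective T)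
    (hTρ : ∀ n, T * ρ n = ρ (σ n) * T) (hsum : ∑ n, ρ n = 0) :
    2 * ∑ h, finrank K (LinearMap.ker (T * ρ h - 1)) ≤ Fintype.card N * finrank K V := by
  induction hd : finrank K V using Nat.strong_induction_on generalizing V with
  | _ d ih =>
  subst hd
  by_cases hirr : ∀ U : Submodule K V, (∀ x ∈ U, T x ∈ U) → (∀ n, ∀ x ∈ U, ρ n x ∈ U) → U = ⊥ ∨ U = ⊤
  · exact two_mul_sum_of_irreducible hN σ ρ T hT hTρ hsum hirr
  push Not at hirr
  obtain ⟨U, hUT, hUρ, hU0, hU1⟩ := hirr
  let ρU : N →* Module.End K U :=
    { toFun := fun n => (ρ n).restrict (hUρ n)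
      map_one' := LinearMap.ext fun x => Subtype.ext (by simp [LinearMap.restrict_apply])
      map_mul' := fun a b => LinearMap.ext fun x => Subtype.ext (by simp [LinearMap.restrict_apply]) }
  let ρQ : N →* Module.End K (V ⧸ U) :=
    { toFun := fun n => U.mapQ U (ρ n) (hUρ n)
      map_one' := Submodule.linearMap_qext _ (LinearMap.ext fun x => by simp)
      map_mul' := fun a b => Submodule.linearMap_qext _ (LinearMap.ext fun x => by simp) }
  have hQ : finrank K (V ⧸ U) + finrank K U = finrank K V := U.finrank_quotient_add_finrank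
  have hU0' : finrank K U ≠ 0 := fun h => hU0 (Submodule.finrank_eq_zero.1 h)
  have hU1' : finrank K U < finrank K V := Submodule.finrank_lt hU1
  have hTQ : Function.Injective (U.mapQ U T hUT) := by
    have hsT : ∀ x, T x ∈ U → x ∈ U := fun x hx => by
      have hb : Function.Surjective (T.restrict hUT) := LinearMap.injective_iff_surjective.1
        fun a b hab => Subtype.ext (hT (congrArg Subtype.val hab))
      obtain ⟨y, hy⟩ := hb ⟨T x, hx⟩
      rw [← hT (congrArg Subtype.val hy)]
      exact y.2
    rw [← LinearMap.ker_eq_bot, Submodule.eq_bot_iff]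
    intro q hq
    induction q using Submodule.Quotient.induction_on with
    | _ x =>
    rw [LinearMap.mem_ker, Submodule.mapQ_apply, Submodule.Quotient.mk_eq_zero] at hq
    exact (Submodule.Quotient.mk_eq_zero U).2 (hsT x hq)
  have h1 := ih (finrank K U) hU1' (V := U) ρU (T.restrict hUT)
    (fun a b hab => Subtype.ext (hT (congrArg Subtype.val hab)))
    (fun n => LinearMap.ext fun x => Subtype.ext (by
      simpa [ρU, LinearMap.restrict_apply] using DFunLike.congr_fun (hTρ n) (x : V)))
    (LinearMap.ext fun x => Subtype.ext (by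
      simpa [ρU, LinearMap.restrict_apply] using DFunLike.congr_fun hsum (x : V))) rfl
  have h2 := ih (finrank K (V ⧸ U)) (by omega) (V := V ⧸ U) ρQ (U.mapQ U T hUT) hTQ
    (fun n => Submodule.linearMap_qext _ (LinearMap.ext fun x => by
      simpa [ρQ] using congrArg (Submodule.Quotient.mk (p := U)) (DFunLike.congr_fun (hTρ n) x)))
    (Submodule.linearMap_qext _ (LinearMap.ext fun x => by
      have h := congrArg U.mkQ (DFunLike.congr_fun hsum x)
      simp only [LinearMap.sum_apply, map_sum, LinearMap.zero_apply, map_zero, Submodule.mkQ_apply] at h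
      simp [ρQ, LinearMap.sum_apply, h])) rfl
  have key : ∀ h, finrank K (LinearMap.ker (T * ρ h - 1)) ≤
      finrank K (LinearMap.ker (T.restrict hUT * ρU h - 1)) +
        finrank K (LinearMap.ker (U.mapQ U T hUT * ρQ h - 1)) := fun h => by
    have hA : ∀ x ∈ U, (T * ρ h - 1) x ∈ U := fun x hx =>
      U.sub_mem (hUT _ (hUρ h x hx)) hx
    refine (finrank_ker_le_restrict_add_mapQ _ U hA).trans_eq ?_
    rw [show (T * ρ h - 1).restrict hA = T.restrict hUT * ρU h - 1 from
        LinearMap.ext fun x => Subtype.ext rfl,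
      show U.mapQ U (T * ρ h - 1) hA = U.mapQ U T hUT * ρQ h - 1 from
        Submodule.linearMap_qext _ (LinearMap.ext fun x => rfl)]

  calc 2 * ∑ h, finrank K (LinearMap.ker (T * ρ h - 1))
      ≤ 2 * ∑ h, (finrank K (LinearMap.ker (T.restrict hUT * ρU h - 1)) +
        finrank K (LinearMap.ker (U.mapQ U T hUT * ρQ h - 1))) :=
        Nat.mul_le_mul_left 2 (Finset.sum_le_sum fun h _ => key h)
    _ ≤ Fintype.card N * finrank K V := by
        rw [Finset.sum_add_distrib, mul_add, ← hQ, mul_add]
        omega

section Group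

variable {W : Type*} [CommGroup W] [Finite W] {p : ℕ} [Fact p.Prime]

theorem two_mul_sum_coset (hexp : ∀ w : W, w ^ p = 1) (A : Subgroup (MulAut W)) [Fintype A]
    (hA : ∀ a ∈ A, ∀ b ∈ A, a * b = b * a) (hcop : ¬ p ∣ Fintype.card A)
    (hfix : ∀ w : W, (∀ a ∈ A, a w = w) → w = 1) (t : MulAut W)
    (ht : ∀ a, a ∈ A ↔ t * a * t⁻¹ ∈ A) :
    2 * ∑ a : A, (Nat.card {w : W // (t * (a : MulAut W)) w = w}).factorization p ≤
      Fintype.card A * (Nat.card W).factorization p := by
  classical
  letI : CommGroup A := { mul_comm := fun a b => Subtype.ext (hA a a.2 b b.2) }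
  haveI : Module (ZMod p) (Additive W) := AddCommGroup.zmodModule fun x => by
    apply Additive.toMul.injective
    rw [toMul_nsmul]
    exact hexp _
  haveI : Module.Finite (ZMod p) (Additive W) := Module.Finite.of_finite
  let lin : MulAut W →* (Additive W →ₗ[ZMod p] Additive W) :=
    { toFun := fun e => (MonoidHom.toAdditive e.toMonoidHom).toZModLinearMap p
      map_one' := LinearMap.ext fun _ => rfl
      map_mul' := fun _ _ => LinearMap.ext fun _ => rfl }
  have hlin : ∀ (e : MulAut W) (x : Additive W), lin e x = Additive.ofMul (e x.toMul) := fun _ _ => rfl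
  let σ : A ≃* A :=
    { toFun := fun a => ⟨t * a * t⁻¹, (ht a).1 a.2⟩
      invFun := fun a => ⟨t⁻¹ * a * t, (ht _).2 (by
        rw [show t * (t⁻¹ * (a : MulAut W) * t) * t⁻¹ = a by group]; exact a.2)⟩
      left_inv := fun a => Subtype.ext (by simp only; group)
      right_inv := fun a => Subtype.ext (by simp only; group)
      map_mul' := fun a b => Subtype.ext (by simp only [Subgroup.coe_mul]; group) }
  let K := AlgebraicClosure (ZMod p)
  haveI : CharP K p := charP_of_injective_algebraMap (algebraMap (ZMod p) K).injective p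
  let bc := Module.End.baseChangeHom (ZMod p) K (Additive W)
  let ρ : A →* Module.End K (TensorProduct (ZMod p) K (Additive W)) :=
    bc.toMonoidHom.comp (lin.comp A.subtype)
  have hinjbc : ∀ f : Module.End (ZMod p) (Additive W), Function.Injective f →
      Function.Injective (bc f) := fun f hf =>
    Module.Flat.lTensor_preserves_injective_linearMap f hf
  have hsum0 : ∑ a : A, lin a = 0 := LinearMap.ext fun x => by
    rw [LinearMap.sum_apply, LinearMap.zero_apply]
    apply Additive.toMul.injective
    refine hfix _ fun b hb => ?_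
    have h : lin b (∑ a : A, lin a x) = ∑ a : A, lin a x := by
      rw [map_sum]
      exact Fintype.sum_equiv (Equiv.mulLeft (⟨b, hb⟩ : A)) _ _ fun a => by
        rw [← Module.End.mul_apply, ← map_mul]; rfl
    exact congrArg Additive.toMul h
  have hN : (Fintype.card A : K) ≠ 0 := by rwa [Ne, CharP.cast_eq_zero_iff K p]
  have h := two_mul_sum_finrank_fixed hN σ ρ (bc (lin t))
    (hinjbc _ fun x y hxy => Additive.toMul.injective (t.injective (congrArg Additive.toMul hxy)))
    (fun a => by
      show bc (lin t) * bc (lin a) = bc (lin (t * (a : MulAut W) * t⁻¹)) * bc (lin t)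
      rw [← map_mul, ← map_mul, ← map_mul, ← map_mul, inv_mul_cancel_right])
    (by
      show ∑ a : A, bc (lin a) = 0
      rw [← map_sum, hsum0, map_zero])
  rw [Module.finrank_baseChange] at h
  have hcardW : (Nat.card W).factorization p = finrank (ZMod p) (Additive W) := by
    rw [← Nat.card_congr Additive.ofMul.symm, Module.natCard_eq_pow_finrank (K := ZMod p), Nat.card_zmod,
      (Fact.out : p.Prime).factorization_pow, Finsupp.single_eq_same]
  rw [hcardW]
  refine le_trans (Nat.mul_le_mul_left 2 (Finset.sum_le_sum fun a _ => ?_)) h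
  set f := lin (t * a) - 1 with hf
  have hcard : (Nat.card {w : W // (t * (a : MulAut W)) w = w}).factorization p =
      finrank (ZMod p) (LinearMap.ker f) := by
    have e : {w : W // (t * (a : MulAut W)) w = w} ≃ LinearMap.ker f :=
      Equiv.subtypeEquiv Additive.ofMul fun w => by
        rw [LinearMap.mem_ker, hf, LinearMap.sub_apply, Module.End.one_apply, sub_eq_zero, hlin]
        exact Additive.ofMul.injective.eq_iff.symm
    rw [Nat.card_congr e, Module.natCard_eq_pow_finrank (K := ZMod p), Nat.card_zmod,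
      (Fact.out : p.Prime).factorization_pow, Finsupp.single_eq_same]
  have hbf : bc (lin t) * ρ a - 1 = bc f := by
    rw [hf, map_sub, map_one, map_mul, map_mul]
    rfl
  rw [hcard, hbf, ← Module.finrank_baseChange (R := K)]
  let i := LinearMap.baseChange K (LinearMap.ker f).subtype
  have hi : ∀ x, i x ∈ LinearMap.ker (bc f) := fun x => by
    rw [LinearMap.mem_ker]
    show (f.baseChange K ∘ₗ i) x = 0
    rw [← LinearMap.baseChange_comp, LinearMap.comp_ker_subtype, LinearMap.baseChange_zero,
      LinearMap.zero_apply]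
  exact LinearMap.finrank_le_finrank_of_injective (f := i.codRestrict _ hi)
    fun x y hxy => Module.Flat.lTensor_preserves_injective_linearMap _
      (Submodule.injective_subtype _) (congrArg Subtype.val hxy)

end Group

end Cfsg.Agent.PrimAvg
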