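import Cfsg.Agent.Lib.Char.CliffordAbelian
import Cfsg.Agent.Lib.Char.Product

/-!
# An invariant constituent on a normal subgroup with abelian quotient

If no subgroup strictly between `N` and `H` contains the support of `θ`, the restriction of `θ` to `N` is
irreducible or fully ramified (Isaacs 6.18).
-/

set_option autoImplicit false
set_option linter.style.haveILetI false
set_option linter.unusedSectionVars false

namespace Cfsg.Agent.PrimAvg

open Cfsg Cfsg.Agent.Char
open scoped ComplexConjugate

universe u

variable {H : Type u} [Group H] [Fintype H]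

theorem ramification_dichotomy (N : Subgroup H) [N.Normal] [Fintype N]
    (hab : ∀ a b : H ⧸ N, a * b = b * a) (θ : IrrCharacter H) (φ : IrrCharacter N)
    (hinv : ∀ g, conjFun N φ.1 g = φ.1) (hφ : classInner (resFun N θ.1) φ.1 ≠ 0)
    (hU : (∀ x, θ.1 x ≠ 0 → x ∈ N) ∨
      ∀ U : Subgroup H, N ≤ U → (∀ x, θ.1 x ≠ 0 → x ∈ U) → U = ⊤) :
    degree θ = degree φ ∨ ∃ e : ℕ, degree θ = e * degree φ ∧ e ^ 2 = N.index := by
  classical
  obtain ⟨e, C, he, hind, hcard, hres⟩ := exists_common_ramification N φ hinv hab
  have hmem : ∀ χ : IrrCharacter H, classInner (resFun N χ.1) φ.1 ≠ 0 → χ ∈ C := by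
    intro χ hχ
    by_contra hnot
    have hcl := IsCharacter.isClassFunction (irr_isCharacter χ)
    have h := classInner_indFun N φ.1 hcl
    rw [hind, classInner_smul_left, classInner_sum_left, Finset.sum_eq_zero fun ψ hψ =>
      classInner_irr_of_ne ψ.2 χ.2 fun e => hnot (Subtype.ext e ▸ hψ), mul_zero,
      ← conj_classInner, eq_comm, map_eq_zero] at h
    exact hχ h
  have hθC := hmem θ hφ
  have hidx : e ^ 2 * C.card = N.index := by
    rw [← N.index_mul_card] at hcard
    exact Nat.eq_of_mul_eq_mul_right Nat.card_pos hcard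
  have hdeg : degree θ = e * degree φ := by
    have h := hres θ hθC 1
    rw [Subgroup.coe_one, apply_one_eq_degree, apply_one_eq_degree] at h
    exact_mod_cast h
  rcases hU with hU | hU
  · refine Or.inr ⟨e, hdeg, ?_⟩
    have h1 : ∀ {A : Type u} [Group A] [Fintype A] (ψ : IrrCharacter A),
        ∑ x : A, ψ.1 x * conj (ψ.1 x) = (Nat.card A : ℂ) := fun {A} _ _ ψ => by
      have h := Char.classInner_irr_self ψ.2
      rwa [classInner, inv_mul_eq_one₀ Char.card_ne_zero, eq_comm] at h
    have h2 : ∑ n : N, θ.1 n * conj (θ.1 n) = ∑ x : H, θ.1 x * conj (θ.1 x) :=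
      Fintype.sum_of_injective N.subtype N.subtype_injective _ _
        (fun x hx => by
          rw [show θ.1 x = 0 by
            by_contra h; exact hx ⟨⟨x, hU x h⟩, rfl⟩, zero_mul])
        fun n => rfl
    simp only [hres θ hθC, map_mul, Complex.conj_natCast,
      show ∀ n : N, (e : ℂ) * φ.1 n * ((e : ℂ) * conj (φ.1 n)) = (e : ℂ) ^ 2 * (φ.1 n * conj (φ.1 n))
        from fun n => by ring, ← Finset.mul_sum, h1] at h2
    rw [← N.index_mul_card] at h2
    push_cast at h2
    exact_mod_cast mul_right_cancel₀ (Nat.cast_ne_zero.2 Nat.card_pos.ne') h2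
  · refine Or.inl ?_
    have hlin : ∀ β : IrrCharacter (H ⧸ N), ∃ lam : H ⧸ N →* ℂ, (∀ x, lam x = β.1 x) ∧
        IsIrrCharacter H (mulQuotient N θ.1 β.1) := by
      intro β
      obtain ⟨lam, hlam⟩ := IsCharacter.exists_monoidHom (irr_isCharacter β) (apply_one_of_comm hab β)
      refine ⟨lam, fun x => by rw [← hlam], ?_⟩
      have h := IsIrrCharacter.mul_linear θ.2 (lam.comp (QuotientGroup.mk' N))
      convert h using 1
      funext g
      simp [← hlam, mul_comm]
    choose lam hlam hirr using hlin
    let Φ : IrrCharacter (H ⧸ N) → C := fun β => ⟨⟨_, hirr β⟩, hmem _ (by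
      have h : resFun N (mulQuotient N θ.1 β.1) = resFun N θ.1 := funext fun n => by
        simp [resFun, mulQuotient, (QuotientGroup.eq_one_iff (n : H)).2 n.2, apply_one_of_comm hab β]
      show classInner (resFun N (mulQuotient N θ.1 β.1)) φ.1 ≠ 0
      rw [h]; exact hφ)⟩
    have hΦ : Function.Injective Φ := by
      intro β β' h
      have h' : ∀ x : H, θ.1 x * β.1 x = θ.1 x * β'.1 x := fun x =>
        congrFun (congrArg (fun c : C => c.1.1) h) x
      have htop := hU (((lam β).comp (QuotientGroup.mk' N)).eqLocus ((lam β').comp (QuotientGroup.mk' N)))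
        (fun x hx => by
          show lam β (x : H ⧸ N) = lam β' (x : H ⧸ N)
          rw [(QuotientGroup.eq_one_iff x).2 hx, map_one, map_one])
        (fun x hx => by
          show lam β (x : H ⧸ N) = lam β' (x : H ⧸ N)
          rw [hlam, hlam]
          exact mul_left_cancel₀ hx (h' x))
      refine Subtype.ext (funext fun q => ?_)
      obtain ⟨x, rfl⟩ := QuotientGroup.mk_surjective q
      rw [← hlam, ← hlam]
      exact (htop ▸ Subgroup.mem_top x : x ∈ MonoidHom.eqLocus _ _)
    have hle : N.index ≤ C.card := by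
      haveI : Fintype (H ⧸ N) := Fintype.ofFinite _
      have h := Nat.card_le_card_of_injective Φ hΦ
      rw [card_irr, Nat.card_eq_fintype_card (α := C), Fintype.card_coe] at h
      rw [Subgroup.index_eq_card]
      refine le_trans (le_of_eq ?_) h
      exact Nat.card_eq_of_bijective ConjClasses.mk ⟨fun a b hab' => by
        obtain ⟨c, hc⟩ := isConj_iff.1 (ConjClasses.mk_eq_mk_iff_isConj.1 hab')
        rwa [hab c a, mul_inv_cancel_right] at hc, ConjClasses.mk_surjective⟩
    have he1 : e = 1 := by
      have hpos : 0 < N.index := Nat.pos_of_ne_zero Subgroup.index_ne_zero_of_finite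
      have h1 : e ^ 2 * N.index ≤ 1 * N.index := by
        rw [one_mul]; exact (Nat.mul_le_mul_left _ hle).trans_eq hidx
      have h2 := Nat.le_of_mul_le_mul_right h1 hpos
      nlinarith
    rw [hdeg, he1, one_mul]

end Cfsg.Agent.PrimAvg
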