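import Cfsg.Agent.Lib.PrimAvg.Fixed
import Cfsg.Agent.Lib.PrimAvg.Step
import Cfsg.Agent.Lib.MetanilpotentPrim.Restriction
import Cfsg.Prelude.Def_Blocks
import Mathlib.GroupTheory.Solvable

/-!
# The `p`-part of a primitive character degree of a solvable group

Along a chief series the squares of the ramification indices are orders of chief factors, and on
average an element fixes at most half of each of them, so some class size is divisible by the
`p`-part of the degree.
-/

set_option autoImplicit false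
set_option linter.style.haveILetI false
set_option linter.unusedSectionVars false

namespace Cfsg.Agent.PrimAvg

open Cfsg Cfsg.Agent.Char Cfsg.Agent.MetanilpotentPrim

universe u

theorem exists_abelian_normal {P : Type u} [Group P] [Group.IsSolvable P] [Nontrivial P] :
    ∃ A : Subgroup P, A.Normal ∧ A ≠ ⊥ ∧ ∀ a ∈ A, ∀ b ∈ A, a * b = b * a := by
  classical
  have hex : ∃ n, derivedSeries P n = ⊥ := Group.IsSolvable.solvable
  obtain ⟨k, hk⟩ : ∃ k, Nat.find hex = k + 1 := by
    refine Nat.exists_eq_add_one.2 (Nat.pos_of_ne_zero fun h0 => ?_)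
    have h := Nat.find_spec hex
    rw [h0, derivedSeries_zero] at h
    exact top_ne_bot h
  refine ⟨derivedSeries P k, derivedSeries_normal P k,
    fun h => Nat.find_min hex (by omega) h, fun a ha b hb => ?_⟩
  have h := Nat.find_spec hex
  rw [hk, derivedSeries_succ] at h
  have hc := Subgroup.commutator_mem_commutator ha hb
  rw [h, Subgroup.mem_bot, commutatorElement_eq_one_iff_mul_comm] at hc
  exact hc

section Action

variable {G : Type u} [Group G] [Fintype G] {W : Type u} [CommGroup W] [Finite W] {p : ℕ} [Fact p.Prime]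

/-- On average an element of a solvable group fixes at most half of a nontrivial irreducible module. -/
theorem two_mul_sum_fixed (hsolv : Group.IsSolvable G) (act : G →* MulAut W)
    (hexp : ∀ w : W, w ^ p = 1) (hirr : ∀ Y : Subgroup W, (∀ g, ∀ y ∈ Y, act g y ∈ Y) → Y = ⊥ ∨ Y = ⊤)
    (hne : act.range ≠ ⊥) :
    2 * ∑ g : G, (Nat.card {w : W // act g w = w}).factorization p ≤
      Fintype.card G * (Nat.card W).factorization p := by
  classical
  haveI : Nontrivial act.range := (Subgroup.nontrivial_iff_ne_bot _).2 hne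
  haveI : Group.IsSolvable act.range := Group.isSolvable_of_surjective act.rangeRestrict_surjective
  obtain ⟨A₀, hA₀n, hA₀1, hA₀c⟩ := exists_abelian_normal (P := act.range)
  set A : Subgroup (MulAut W) := A₀.map act.range.subtype with hAdef
  haveI : Fintype A := Fintype.ofFinite _
  have hAc : ∀ a ∈ A, ∀ b ∈ A, a * b = b * a := by
    rintro _ ⟨a, ha, rfl⟩ _ ⟨b, hb, rfl⟩
    rw [← map_mul, hA₀c a ha b hb, map_mul]
  have hconj : ∀ g : G, ∀ a ∈ A, act g * a * (act g)⁻¹ ∈ A := by
    rintro g _ ⟨a, ha, rfl⟩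
    exact ⟨⟨act g, g, rfl⟩ * a * ⟨act g, g, rfl⟩⁻¹, hA₀n.conj_mem a ha _, rfl⟩
  have hAne : ∃ a ∈ A, a ≠ 1 := by
    obtain ⟨⟨a, ha⟩, hne'⟩ : ∃ a : A₀, a ≠ 1 := by
      haveI := (Subgroup.nontrivial_iff_ne_bot _).2 hA₀1
      exact exists_ne 1
    exact ⟨a.1, ⟨a, ha, rfl⟩, fun h => hne' (Subtype.ext (Subtype.ext h))⟩
  -- fixed points of an invariant set of automorphisms
  have hfix : ∀ S : Subgroup (MulAut W), (∀ g : G, ∀ a ∈ S, (act g)⁻¹ * a * act g ∈ S) →
      (∀ a ∈ S, a = 1) ∨ ∀ w : W, (∀ a ∈ S, a w = w) → w = 1 := by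
    intro S hS
    let Y : Subgroup W :=
      { carrier := {w | ∀ a ∈ S, a w = w}
        one_mem' := fun a _ => map_one a
        mul_mem' := fun {x y} hx hy a ha => by rw [map_mul, hx a ha, hy a ha]
        inv_mem' := fun {x} hx a ha => by rw [map_inv, hx a ha] }
    rcases hirr Y (fun g y hy a ha => by
      have h := hy _ (hS g a ha)
      rw [MulAut.mul_apply, MulAut.mul_apply] at h
      have h' := congrArg (act g) h
      rwa [MulAut.apply_inv_self] at h') with hY | hY
    · exact Or.inr fun w hw => Subgroup.mem_bot.1 (hY ▸ (show w ∈ Y from hw))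
    · exact Or.inl fun a ha => MulEquiv.ext fun w =>
        (show w ∈ Y from hY ▸ Subgroup.mem_top w) a ha
  have hconj' : ∀ g : G, ∀ a ∈ A, (act g)⁻¹ * a * act g ∈ A := fun g a ha => by
    simpa using hconj g⁻¹ a ha
  have hA1 : ∀ w : W, (∀ a ∈ A, a w = w) → w = 1 := (hfix A hconj').resolve_left fun h => by
    obtain ⟨a, ha, hne'⟩ := hAne
    exact hne' (h a ha)
  have hcop : ¬ p ∣ Fintype.card A := by
    intro hdvd
    obtain ⟨a, ha⟩ := exists_prime_orderOf_dvd_card p hdvd
    let S : Subgroup (MulAut W) :=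
      { carrier := {x | x ∈ A ∧ x ^ p = 1}
        one_mem' := ⟨one_mem A, one_pow p⟩
        mul_mem' := fun {x y} hx hy => ⟨mul_mem hx.1 hy.1, by
          rw [(show Commute x y from hAc x hx.1 y hy.1).mul_pow, hx.2, hy.2, one_mul]⟩
        inv_mem' := fun {x} hx => ⟨inv_mem hx.1, by rw [inv_pow, hx.2, inv_one]⟩ }
    have haS : (a : MulAut W) ∈ S :=
      ⟨a.2, by rw [← Subgroup.coe_pow, ← ha, pow_orderOf_eq_one, Subgroup.coe_one]⟩
    rcases hfix S (fun g x hx => ⟨hconj' g x hx.1, by
      have : ((act g)⁻¹ * x * act g) ^ p = (act g)⁻¹ * x ^ p * act g := by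
        simpa using (conj_pow (i := p) (a := (act g)⁻¹) (b := x))
      rw [this, hx.2, mul_one, inv_mul_cancel]⟩) with hS | hS
    · have h1 : (a : MulAut W) = 1 := hS a haS
      rw [show a = 1 from Subtype.ext h1, orderOf_one] at ha
      exact (Fact.out : p.Prime).ne_one ha.symm
    · have hSp : IsPGroup p S := fun x => ⟨1, Subtype.ext (by
        rw [pow_one, Subgroup.coe_pow, x.2.2, Subgroup.coe_one])⟩
      rcases subsingleton_or_nontrivial W with hW | hW
      · have h1 : (a : MulAut W) = 1 := MulEquiv.ext fun w => Subsingleton.elim _ _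
        rw [show a = 1 from Subtype.ext h1, orderOf_one] at ha
        exact (Fact.out : p.Prime).ne_one ha.symm
      letI : MulAction S W :=
        { smul := fun x w => (x : MulAut W) w
          one_smul := fun w => rfl
          mul_smul := fun x y w => rfl }
      have h1 : (1 : W) ∈ MulAction.fixedPoints S W := fun x => map_one (x : MulAut W)
      have hWp : p ∣ Nat.card W := by
        obtain ⟨w, hw⟩ := exists_ne (1 : W)
        exact (orderOf_eq_prime (hexp w) hw) ▸ orderOf_dvd_natCard w
      obtain ⟨w, hw, hw1⟩ := hSp.exists_fixed_point_of_prime_dvd_card_of_fixed_point W hWp h1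
      exact hw1 (hS w fun x hx => hw ⟨x, hx⟩).symm
  have hrow : ∀ g : G, 2 * ∑ a : A, (Nat.card {w : W // (act g * (a : MulAut W)) w = w}).factorization p ≤
      Fintype.card A * (Nat.card W).factorization p := fun g =>
    two_mul_sum_coset hexp A hAc hcop hA1 (act g) fun a => ⟨hconj g a, fun h => by
      simpa [mul_assoc] using hconj' g _ h⟩
  have hs : ∀ a : A, ∃ x : G, act x = a := fun a => by
    obtain ⟨y, -, hy⟩ := a.2
    obtain ⟨x, hx⟩ := y.2
    exact ⟨x, hx.trans hy⟩
  choose s hs using hs
  set k : MulAut W → ℕ := fun e => (Nat.card {w : W // e w = w}).factorization p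
  show 2 * ∑ g : G, k (act g) ≤ _
  have hsum : Fintype.card A * ∑ g : G, k (act g) = ∑ g : G, ∑ a : A, k (act g * a) := by
    rw [Finset.sum_comm]
    have h : ∀ a : A, ∑ g : G, k (act g * a) = ∑ g : G, k (act g) := fun a =>
      Fintype.sum_equiv (Equiv.mulRight (s a)) _ _ fun g => by simp [hs]
    simp [h]
  refine Nat.le_of_mul_le_mul_left ?_ (Fintype.card_pos (α := A))
  calc Fintype.card A * (2 * ∑ g : G, k (act g)) = ∑ g : G, 2 * ∑ a : A, k (act g * a) := by
        rw [mul_left_comm, hsum, Finset.mul_sum]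
    _ ≤ ∑ _g : G, Fintype.card A * (Nat.card W).factorization p := Finset.sum_le_sum fun g _ => hrow g
    _ = _ := by rw [Finset.sum_const, Finset.card_univ, smul_eq_mul]; ring

end Action

section Chief

variable {G : Type u} [Group G] [Fintype G] {p : ℕ} [Fact p.Prime]

/-- The inductive statement along a chief series. -/
def Bound (p : ℕ) (χ : IrrCharacter G) (L : Subgroup G) [Fintype L] : Prop :=
  ∀ θ : IrrCharacter L, classInner (resFun L χ.1) θ.1 ≠ 0 → ∃ f : G → ℕ,
    2 * ∑ g, f g ≤ Fintype.card G * (2 * (degree θ).factorization p) ∧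
    ∀ g, (Nat.card ↥(L ⊓ Subgroup.centralizer {g})).factorization p + 2 * (degree θ).factorization p ≤
      (Nat.card L).factorization p + f g

theorem factorization_mul_relIndex {A B : Subgroup G} (h : A ≤ B) :
    (Nat.card B).factorization p = (Nat.card A).factorization p + (A.relIndex B).factorization p := by
  rw [← Nat.card_congr (Subgroup.subgroupOfEquivOfLe h).toEquiv, Subgroup.relIndex, ← Finsupp.add_apply,
    ← Nat.factorization_mul Nat.card_pos.ne' Subgroup.index_ne_zero_of_finite, Subgroup.card_mul_index]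

/-- One step of the induction. -/
theorem bound_step (hsolv : Group.IsSolvable G) {χ : IrrCharacter G} (hprim : IsPrim χ) (L : Subgroup G)
    [L.Normal] [Fintype L] (K : Subgroup G) [K.Normal] [Fintype K] (hKL : K ≤ L)
    (hmin : ∀ U : Subgroup G, U.Normal → K ≤ U → U ≤ L → U = K ∨ U = L)
    (hcomm : ∀ a ∈ L, ∀ b ∈ L, a * b * a⁻¹ * b⁻¹ ∈ K) (ih : Bound p χ K) : Bound p χ L := by
  classical
  intro θ hθ
  let N := K.subgroupOf L
  haveI : N.Normal := inferInstanceAs (K.subgroupOf L).Normal
  haveI : Fintype N := Fintype.ofFinite _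
  have hab : ∀ a b : L ⧸ N, a * b = b * a := by
    intro a b
    obtain ⟨a, rfl⟩ := QuotientGroup.mk_surjective a
    obtain ⟨b, rfl⟩ := QuotientGroup.mk_surjective b
    rw [← QuotientGroup.mk_mul, ← QuotientGroup.mk_mul, QuotientGroup.eq, Subgroup.mem_subgroupOf]
    have h := hcomm _ (inv_mem b.2) _ (inv_mem a.2)
    simpa [mul_assoc] using h
  obtain ⟨φ', hφ'⟩ := exists_constituent N θ
  let E : N ≃* K := Subgroup.subgroupOfEquivOfLe hKL
  let φ : IrrCharacter K := ⟨fun x => φ'.1 (E.symm x), IsIrrCharacter.comp_mulEquiv φ'.2 E.symm⟩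
  have hinvθ := primitive_conjFun_eq hprim L θ hθ
  have hres := resFun_eq_smul_of_invariant L χ θ hinvθ hθ
  have hφ : classInner (resFun K χ.1) φ.1 ≠ 0 := by
    have h0 : classInner (resFun N (resFun L χ.1)) φ'.1 = classInner (resFun K χ.1) φ.1 := by
      rw [← classInner_comp_mulEquiv E (resFun K χ.1) φ.1]
      congr 1
    rw [← h0, hres, show resFun N (classInner (resFun L χ.1) θ.1 • θ.1) =
      classInner (resFun L χ.1) θ.1 • resFun N θ.1 from rfl, classInner_smul_left]
    exact mul_ne_zero hθ hφ'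
  have hinvφ := primitive_conjFun_eq hprim K φ hφ
  obtain ⟨f, hf1, hf2⟩ := ih φ hφ
  have hdegφ : degree φ = degree φ' := by
    have h : φ.1 1 = φ'.1 1 := by show φ'.1 (E.symm 1) = _; rw [map_one]
    rw [apply_one_eq_degree, apply_one_eq_degree] at h
    exact_mod_cast h
  -- the subgroup generated by `K` and the support of `θ`
  let S : Set G := {x | ∃ hx : x ∈ L, θ.1 ⟨x, hx⟩ ≠ 0}
  have hS : Group.conjugatesOfSet S ⊆ S := by
    intro y hy
    obtain ⟨x, ⟨hx, hx'⟩, hxy⟩ := Group.mem_conjugatesOfSet_iff.1 hy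
    obtain ⟨g, rfl⟩ := isConj_iff.1 hxy
    refine ⟨Subgroup.Normal.conj_mem inferInstance x hx g, ?_⟩
    rw [← congrFun (hinvθ g) ⟨x, hx⟩] at hx'
    intro h0; apply hx'
    show θ.1 (MulAut.conjNormal g ⟨x, hx⟩) = 0
    rw [← h0]
    exact congrArg θ.1 (Subtype.ext (MulAut.conjNormal_apply g _))
  have hU : (∀ x, θ.1 x ≠ 0 → x ∈ N) ∨
      ∀ U : Subgroup L, N ≤ U → (∀ x, θ.1 x ≠ 0 → x ∈ U) → U = ⊤ := by
    rcases hmin (K ⊔ Subgroup.normalClosure S) inferInstance le_sup_left
      (sup_le hKL (Subgroup.normalClosure_le_normal fun x hx => hx.1)) with h | h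
    · refine Or.inl fun x hx => ?_
      have : (x : G) ∈ K := h ▸ Subgroup.mem_sup_right (Subgroup.subset_normalClosure ⟨x.2, hx⟩)
      exact this
    · refine Or.inr fun U hNU hsupp => eq_top_iff.2 fun x _ => ?_
      have hle : K ⊔ Subgroup.normalClosure S ≤ U.map L.subtype := by
        refine sup_le (fun k hk => ⟨⟨k, hKL hk⟩, hNU hk, rfl⟩) ?_
        refine (Subgroup.closure_le _).2 (hS.trans ?_)
        rintro y ⟨hy, hy'⟩
        exact ⟨⟨y, hy⟩, hsupp _ hy', rfl⟩
      have hx : (x : G) ∈ K ⊔ Subgroup.normalClosure S := by rw [h]; exact x.2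
      obtain ⟨u, hu, hux⟩ := hle hx
      exact (Subtype.ext hux : u = x) ▸ hu
  have hrel : K.relIndex L = N.index := rfl
  have hcent : ∀ g, (Nat.card ↥(L ⊓ Subgroup.centralizer {g})).factorization p ≤
      (Nat.card ↥(K ⊓ Subgroup.centralizer {g})).factorization p + (K.relIndex L).factorization p := by
    intro g
    rw [factorization_mul_relIndex (inf_le_inf_right (Subgroup.centralizer {g}) hKL)]
    refine Nat.add_le_add_left ((Nat.factorization_le_iff_dvd Subgroup.index_ne_zero_of_finite
      Subgroup.index_ne_zero_of_finite).2 ?_ p) _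
    show (K ⊓ Subgroup.centralizer {g}).relIndex (L ⊓ Subgroup.centralizer {g}) ∣ K.relIndex L
    set X := L ⊓ Subgroup.centralizer {g}
    rw [show (K ⊓ Subgroup.centralizer {g}).relIndex X = K.relIndex X from by
      rw [← Subgroup.inf_relIndex_right K X, show K ⊓ X = K ⊓ Subgroup.centralizer {g} by
        rw [← inf_assoc, inf_eq_left.2 hKL]]]
    rw [← Subgroup.relIndex_sup_right, ← Subgroup.relIndex_mul_relIndex K (X ⊔ K) L le_sup_right
      (sup_le inf_le_left hKL)]
    exact dvd_mul_right _ _
  -- the case of a step without `p`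
  have easy : (degree θ).factorization p = (degree φ).factorization p → ∃ f : G → ℕ,
      2 * ∑ g, f g ≤ Fintype.card G * (2 * (degree θ).factorization p) ∧
      ∀ g, (Nat.card ↥(L ⊓ Subgroup.centralizer {g})).factorization p +
        2 * (degree θ).factorization p ≤ (Nat.card L).factorization p + f g := fun hd =>
    ⟨f, hd ▸ hf1, fun g => by
      have h1 := hcent g
      have h2 := hf2 g
      have h3 := factorization_mul_relIndex (p := p) hKL
      omega⟩
  rcases ramification_dichotomy N hab θ φ' (fun g => funext fun x => by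
      show φ'.1 (MulAut.conjNormal g x) = φ'.1 x
      have h : φ'.1 (E.symm (MulAut.conjNormal (g : G) (E x))) = φ'.1 (E.symm (E x)) :=
        congrFun (hinvφ (g : G)) (E x)
      rw [MulEquiv.symm_apply_apply] at h
      rw [← h]
      refine congrArg φ'.1 (E.injective ?_)
      rw [MulEquiv.apply_symm_apply]
      exact Subtype.ext rfl) hφ' hU with hd | ⟨e, hd, hesq⟩
  · exact easy (by rw [hd, hdegφ])
  have he0 : e ≠ 0 := fun h => Subgroup.index_ne_zero_of_finite (H := N) (by rw [← hesq, h]; rfl)
  have hde : (degree θ).factorization p = e.factorization p + (degree φ).factorization p := by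
    rw [hd, hdegφ, Nat.factorization_mul he0 (degree_pos φ').ne', Finsupp.add_apply]
  rcases Nat.eq_zero_or_pos (e.factorization p) with he | he
  · exact easy (by omega)
  have hpe : p ∣ e := Nat.dvd_of_factorization_pos he.ne'
  -- `L / K` is an elementary abelian `p`-group
  letI : CommGroup (L ⧸ N) := { mul_comm := hab }
  have hWc : Nat.card (L ⧸ N) = e ^ 2 := by rw [← Subgroup.index_eq_card, hesq]
  let act : G →* MulAut (L ⧸ N) :=
    { toFun := fun g => QuotientGroup.congr N N (MulAut.conjNormal g) (by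
        refine le_antisymm ?_ fun x hx => ?_
        · rintro _ ⟨x, hx, rfl⟩
          exact Subgroup.Normal.conj_mem inferInstance (x : G) hx g
        · refine ⟨(MulAut.conjNormal g).symm x, ?_, (MulAut.conjNormal g).apply_symm_apply x⟩
          show ((MulAut.conjNormal g).symm x : G) ∈ K
          rw [MulAut.conjNormal_symm_apply]
          simpa using Subgroup.Normal.conj_mem (H := K) inferInstance (x : G) hx g⁻¹)
      map_one' := MulEquiv.ext fun q => QuotientGroup.induction_on q fun x => by
        show ((MulAut.conjNormal (1 : G) x : L) : L ⧸ N) = _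
        rw [map_one]; rfl
      map_mul' := fun g h => MulEquiv.ext fun q => QuotientGroup.induction_on q fun x => by
        show ((MulAut.conjNormal (g * h) x : L) : L ⧸ N) = _
        rw [map_mul]; rfl }
  have hirr : ∀ Y : Subgroup (L ⧸ N), (∀ g, ∀ y ∈ Y, act g y ∈ Y) → Y = ⊥ ∨ Y = ⊤ := by
    intro Y hY
    set U := (Y.comap (QuotientGroup.mk' N)).map L.subtype with hUdef
    have hUn : U.Normal := by
      refine ⟨?_⟩
      rintro _ ⟨x, hx, rfl⟩ g
      exact ⟨MulAut.conjNormal g x, hY g _ hx, MulAut.conjNormal_apply g x⟩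
    rcases hmin U hUn (fun k hk => ⟨⟨k, hKL hk⟩, by
        show ((⟨k, hKL hk⟩ : L) : L ⧸ N) ∈ Y
        rw [(QuotientGroup.eq_one_iff (N := N) (⟨k, hKL hk⟩ : L)).2 (show _ ∈ N from hk)]
        exact one_mem Y, rfl⟩)
      (by rintro _ ⟨x, -, rfl⟩; exact x.2) with h | h
    · refine Or.inl ((Subgroup.eq_bot_iff_forall _).2 fun q hq => ?_)
      obtain ⟨x, rfl⟩ := QuotientGroup.mk_surjective q
      exact (QuotientGroup.eq_one_iff x).2 (show (x : G) ∈ K from h ▸ ⟨x, hq, rfl⟩)
    · refine Or.inr (eq_top_iff.2 fun q _ => ?_)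
      obtain ⟨x, rfl⟩ := QuotientGroup.mk_surjective q
      obtain ⟨y, hy, hyx⟩ : (x : G) ∈ U := h.symm ▸ x.2
      exact (Subtype.ext hyx : y = x) ▸ hy
  obtain ⟨w₀, hw₀⟩ := exists_prime_orderOf_dvd_card' (G := L ⧸ N) p
    (hWc ▸ hpe.trans (dvd_pow_self e two_ne_zero))
  have hexp : ∀ w : L ⧸ N, w ^ p = 1 := by
    let Y : Subgroup (L ⧸ N) := (powMonoidHom p).ker
    rcases hirr Y (fun g y hy => by
      show (act g y) ^ p = 1
      rw [← map_pow, show y ^ p = 1 from hy, map_one]) with h | h
    · have : w₀ ∈ Y := show w₀ ^ p = 1 by rw [← hw₀, pow_orderOf_eq_one]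
      rw [h, Subgroup.mem_bot] at this
      rw [this, orderOf_one] at hw₀
      exact absurd hw₀.symm (Fact.out : p.Prime).ne_one
    · exact fun w => (h.symm ▸ Subgroup.mem_top w : w ∈ Y)
  have hne : act.range ≠ ⊥ := by
    intro hbot
    rcases hirr (Subgroup.zpowers w₀) (fun g y hy => by
      have : act g = 1 := by
        have h : act g ∈ act.range := ⟨g, rfl⟩
        rwa [hbot, Subgroup.mem_bot] at h
      rwa [this, MulAut.one_apply]) with h | h
    · rw [Subgroup.zpowers_eq_bot] at h
      rw [h, orderOf_one] at hw₀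
      exact (Fact.out : p.Prime).ne_one hw₀.symm
    · have h1 := Nat.card_zpowers w₀
      rw [h, Subgroup.card_top, hWc, hw₀] at h1
      exact Nat.Prime.not_prime_pow (le_refl 2) (h1 ▸ (Fact.out : p.Prime))
  have hk := two_mul_sum_fixed hsolv act hexp hirr hne
  rw [hWc, Nat.factorization_pow, Finsupp.smul_apply, smul_eq_mul] at hk
  refine ⟨fun g => f g + (Nat.card {w : L ⧸ N // act g w = w}).factorization p, ?_, fun g => ?_⟩
  · rw [Finset.sum_add_distrib, hde, mul_add 2, mul_add 2, mul_add]
    omega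
  have h2 := hf2 g
  have h3 := factorization_mul_relIndex (p := p) hKL
  have h4 : (K.relIndex L).factorization p = 2 * e.factorization p := by
    rw [hrel, ← hesq, Nat.factorization_pow, Finsupp.smul_apply, smul_eq_mul]
  have h5 : (Nat.card ↥(L ⊓ Subgroup.centralizer {g})).factorization p ≤
      (Nat.card ↥(K ⊓ Subgroup.centralizer {g})).factorization p +
        (Nat.card {w : L ⧸ N // act g w = w}).factorization p := by
    set X := L ⊓ Subgroup.centralizer {g}
    let π : X →* L ⧸ N := (QuotientGroup.mk' N).comp (Subgroup.inclusion inf_le_left)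
    let Fx : Subgroup (L ⧸ N) := (act g).toMonoidHom.eqLocus (MonoidHom.id _)
    have hker : π.ker = (K ⊓ Subgroup.centralizer {g}).subgroupOf X := by
      ext x
      rw [MonoidHom.mem_ker, Subgroup.mem_subgroupOf]
      show ((Subgroup.inclusion inf_le_left x : L) : L ⧸ N) = 1 ↔ _
      rw [QuotientGroup.eq_one_iff]
      exact ⟨fun h => ⟨h, x.2.2⟩, fun h => h.1⟩
    have hrange : π.range ≤ Fx := by
      rintro _ ⟨x, rfl⟩
      show ((MulAut.conjNormal g (Subgroup.inclusion inf_le_left x) : L) : L ⧸ N) = _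
      refine congrArg (fun z : L => (z : L ⧸ N)) (Subtype.ext ?_)
      rw [MulAut.conjNormal_apply]
      have hx : ((x : G) * g = g * x) := Subgroup.mem_centralizer_singleton_iff.1 x.2.2
      show g * (x : G) * g⁻¹ = x
      rw [← hx, mul_inv_cancel_right]
    have hcard : Nat.card X = Nat.card π.ker * Nat.card π.range := by
      rw [← Subgroup.index_ker, Subgroup.card_mul_index]
    rw [hcard, Nat.factorization_mul Nat.card_pos.ne' Nat.card_pos.ne', Finsupp.add_apply, hker,
      Nat.card_congr (Subgroup.subgroupOfEquivOfLe (inf_le_inf_right _ hKL)).toEquiv]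
    exact Nat.add_le_add_left ((Nat.factorization_le_iff_dvd Nat.card_pos.ne' (by
      haveI : Nonempty {w : L ⧸ N // act g w = w} := ⟨⟨1, map_one _⟩⟩
      exact Nat.card_pos.ne')).2 (Subgroup.card_dvd_of_le hrange) p) _
  simp only at h2 ⊢
  omega

/-- The bound along a whole chief series. -/
theorem bound (hsolv : Group.IsSolvable G) {χ : IrrCharacter G} (hprim : IsPrim χ) (L : Subgroup G)
    [L.Normal] [Fintype L] : Bound p χ L := by
  classical
  induction hn : Nat.card L using Nat.strong_induction_on generalizing L with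
  | _ n ih =>
  subst hn
  rcases eq_or_ne L ⊥ with rfl | hL
  · intro θ _
    have hd : degree θ = 1 := by
      have h := apply_one_of_comm (fun x y => Subsingleton.elim _ _) θ
      rw [apply_one_eq_degree] at h
      exact_mod_cast h
    refine ⟨fun _ => 0, by simp, fun g => ?_⟩
    rw [hd, Nat.factorization_one]
    simp
  obtain ⟨K, hKmem, hKmax⟩ := Set.Finite.exists_maximal
    (Set.toFinite {K : Subgroup G | K.Normal ∧ K < L})
    ⟨⊥, inferInstance, bot_lt_iff_ne_bot.2 hL⟩
  obtain ⟨hKn, hKlt⟩ := hKmem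
  haveI := hKn
  haveI : Fintype K := Fintype.ofFinite _
  have hmin : ∀ U : Subgroup G, U.Normal → K ≤ U → U ≤ L → U = K ∨ U = L := fun U hUn hKU hUL => by
    by_cases h : U = L
    · exact Or.inr h
    · exact Or.inl (le_antisymm (hKmax ⟨hUn, lt_of_le_of_ne hUL h⟩ hKU) hKU)
  have hcomm : ∀ a ∈ L, ∀ b ∈ L, a * b * a⁻¹ * b⁻¹ ∈ K := by
    intro a ha b hb
    haveI := hsolv
    rcases hmin (⁅L, L⁆ ⊔ K) inferInstance le_sup_right (sup_le (Subgroup.commutator_le_self L) hKlt.le) with h | h
    · exact h ▸ Subgroup.mem_sup_left (Subgroup.commutator_mem_commutator ha hb)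
    · exfalso
      have h1 := congrArg (Subgroup.map (QuotientGroup.mk' K)) h
      rw [Subgroup.map_sup, Subgroup.map_commutator, QuotientGroup.map_mk'_self, sup_bot_eq] at h1
      refine (Group.IsSolvable.commutator_lt_of_ne_bot (H := L.map (QuotientGroup.mk' K)) ?_).ne h1
      rw [Ne, Subgroup.map_eq_bot_iff, QuotientGroup.ker_mk']
      exact hKlt.not_ge
  refine bound_step hsolv hprim L K hKlt.le hmin hcomm
    (ih (Nat.card K) ?_ K rfl)
  exact Set.ncard_lt_ncard (SetLike.coe_ssubset_coe.2 hKlt) (Set.toFinite _)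

/-- Some class size is divisible by the `p`-part of the degree. -/
theorem exists_factorization_le_class (hsolv : Group.IsSolvable G) {χ : IrrCharacter G}
    (hprim : IsPrim χ) : ∃ g : G, (charDegree (χ : G → ℂ)).factorization p ≤
      ((Subgroup.centralizer ({g} : Set G)).index).factorization p := by
  classical
  let e : (⊤ : Subgroup G) ≃* G := Subgroup.topEquiv
  let θ : IrrCharacter (⊤ : Subgroup G) := ⟨resFun ⊤ χ.1, IsIrrCharacter.comp_mulEquiv χ.2 e⟩
  obtain ⟨f, hf1, hf2⟩ := bound hsolv hprim ⊤ (p := p) θ (by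
    show classInner θ.1 θ.1 ≠ 0
    rw [classInner_irr_self θ.2]; exact one_ne_zero)
  have hdeg : charDegree (χ : G → ℂ) = degree θ := by
    have h : χ.1 1 = (degree θ : ℂ) := by rw [← apply_one_eq_degree]; rfl
    rw [Cfsg.charDegree, h, Complex.natCast_re, Nat.floor_natCast]
  obtain ⟨g, hg⟩ : ∃ g, f g ≤ (degree θ).factorization p := by
    obtain ⟨g, -, hg⟩ := Finset.exists_le_of_sum_le (s := (Finset.univ : Finset G))
      Finset.univ_nonempty (f := f) (g := fun _ => (degree θ).factorization p) (by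
        rw [Finset.sum_const, Finset.card_univ, smul_eq_mul]
        nlinarith)
    exact ⟨g, hg⟩
  refine ⟨g, ?_⟩
  have h := hf2 g
  rw [top_inf_eq, Subgroup.card_top] at h
  have h2 : (Nat.card G).factorization p = (Nat.card (Subgroup.centralizer ({g} : Set G))).factorization p
      + ((Subgroup.centralizer ({g} : Set G)).index).factorization p := by
    rw [← Finsupp.add_apply, ← Nat.factorization_mul Nat.card_pos.ne' Subgroup.index_ne_zero_of_finite,
      Subgroup.card_mul_index]
  rw [hdeg]
  omega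

end Chief

end Cfsg.Agent.PrimAvg
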